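import Mathlib.RingTheory.MvPowerSeries.Substitution
import Mathlib.RingTheory.PowerSeries.Substitution
import Mathlib.Algebra.CharP.Two
import Mathlib.Data.Finsupp.Interval
import Mathlib.Tactic.Ring
import Mathlib.Tactic.LinearCombination

/-!
Substitutions `X i ↦ X i * v i` with units `v i` are automorphisms.
-/

universe u v

open MvPowerSeries

namespace Groth.Agent.KumFamH

variable {σ : Type v} [Finite σ] [DecidableEq σ] {R : Type u} [CommRing R]

theorem hasSubst_diag (v : σ → MvPowerSeries σ R) : HasSubst (fun i => X i * v i) :=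
  hasSubst_of_constantCoeff_zero fun i => by simp

theorem prod_diag (v : σ → MvPowerSeries σ R) (d : σ →₀ ℕ) :
    (d.prod fun i k => (X i * v i) ^ k) = monomial d 1 * d.prod (fun i k => v i ^ k) := by
  simp only [mul_pow]
  rw [Finsupp.prod_mul]
  congr 1
  induction d using Finsupp.induction with
  | zero => simp
  | single_add k b c hk hb ih =>
    rw [Finsupp.prod_add_index' (fun i => pow_zero _) (fun i a b => pow_add _ a b), ih,
      Finsupp.prod_single_index (h := fun i k => (X i : MvPowerSeries σ R) ^ k) (pow_zero _),
      X_pow_eq, monomial_mul_monomial, one_mul]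

theorem coeff_subst_diag (v : σ → MvPowerSeries σ R) (f : MvPowerSeries σ R) (e : σ →₀ ℕ) :
    coeff e (subst (fun i => X i * v i) f)
      = ∑ d ∈ Finset.Iic e, coeff d f * coeff (e - d) (d.prod fun i k => v i ^ k) := by
  classical
  rw [coeff_subst (hasSubst_diag v)]
  rw [finsum_eq_sum_of_support_subset _ (s := Finset.Iic e)]
  · refine Finset.sum_congr rfl fun d hd => ?_
    rw [prod_diag, coeff_monomial_mul, if_pos (Finset.mem_Iic.mp hd)]
    simp
  · intro d hd
    simp only [Function.mem_support, ne_eq, prod_diag, coeff_monomial_mul] at hd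
    simp only [Finset.coe_Iic, Set.mem_Iic]
    by_contra hle
    rw [if_neg hle, smul_zero] at hd
    exact hd rfl

/-- the leading factor -/
noncomputable def lead (v : σ → MvPowerSeries σ R) (d : σ →₀ ℕ) : R :=
  constantCoeff (d.prod fun i k => v i ^ k)

theorem coeff_subst_diag' (v : σ → MvPowerSeries σ R) (f : MvPowerSeries σ R)
    (e : σ →₀ ℕ) :
    coeff e (subst (fun i => X i * v i) f)
      = (∑ d ∈ (Finset.Iic e).erase e, coeff d f * coeff (e - d) (d.prod fun i k => v i ^ k))
        + coeff e f * lead v e := by
  rw [coeff_subst_diag, ← Finset.sum_erase_add _ _ (Finset.mem_Iic.mpr le_rfl)]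
  simp [lead, coeff_zero_eq_constantCoeff_apply]

theorem lead_isUnit {v : σ → MvPowerSeries σ R} (hv : ∀ i, IsUnit (constantCoeff (v i)))
    (d : σ →₀ ℕ) : IsUnit (lead v d) := by
  rw [lead, Finsupp.prod, map_prod]
  exact IsUnit.prod_iff.mpr fun i _ => by rw [map_pow]; exact (hv i).pow _

omit [Finite σ] in
theorem degree_lt_of_mem_erase {d e : σ →₀ ℕ} (h : d ∈ (Finset.Iic e).erase e) :
    d.degree < e.degree := by
  obtain ⟨hne, hle⟩ := Finset.mem_erase.mp h
  rw [Finset.mem_Iic] at hle
  have h0 : (e - d).degree ≠ 0 := by
    rw [Ne, Finsupp.degree_eq_zero_iff]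
    intro h0
    exact hne (le_antisymm hle (tsub_eq_zero_iff_le.mp h0))
  have := congrArg Finsupp.degree (tsub_add_cancel_of_le hle)
  rw [map_add] at this
  omega

/-- inverse coefficients -/
noncomputable def invCoeff (v : σ → MvPowerSeries σ R) (f : MvPowerSeries σ R) (e : σ →₀ ℕ) : R :=
  Ring.inverse (lead v e) *
    (coeff e f - ∑ d : {d // d ∈ (Finset.Iic e).erase e},
      invCoeff v f d.1 * coeff (e - d.1) (d.1.prod fun i k => v i ^ k))
termination_by e.degree
decreasing_by exact degree_lt_of_mem_erase d.2

theorem bijective_diag {v : σ → MvPowerSeries σ R} (hv : ∀ i, IsUnit (constantCoeff (v i))) :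
    Function.Bijective (substAlgHom (R := R) (hasSubst_diag v)) := by
  classical
  refine ⟨fun f g hfg => ?_, fun f => ?_⟩
  · rw [coe_substAlgHom] at hfg
    ext e
    induction hn : e.degree using Nat.strong_induction_on generalizing e with
    | _ n ih =>
      have := congrArg (coeff e) hfg
      rw [coeff_subst_diag', coeff_subst_diag',
        Finset.sum_congr rfl (fun d hd => by rw [ih d.degree (hn ▸ degree_lt_of_mem_erase hd) d rfl]),
        add_right_inj] at this
      exact (lead_isUnit hv e).mul_left_inj.mp this
  · refine ⟨fun e => invCoeff v f e, ?_⟩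
    rw [coe_substAlgHom]
    ext e
    have hc : ∀ d, coeff d (fun e => invCoeff v f e : MvPowerSeries σ R) = invCoeff v f d := fun d => rfl
    rw [coeff_subst_diag', hc]
    conv_lhs => enter [2]; rw [invCoeff]
    rw [mul_comm (Ring.inverse (lead v e)), mul_assoc,
      Ring.inverse_mul_cancel _ (lead_isUnit hv e), mul_one]
    simp only [hc]
    rw [Finset.sum_coe_sort ((Finset.Iic e).erase e)
      (fun d => invCoeff v f d * coeff (e - d) (d.prod fun i k => v i ^ k))]
    convert add_sub_cancel _ _

/-- the diagonal automorphism -/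
noncomputable def diagEquiv {v : σ → MvPowerSeries σ R} (hv : ∀ i, IsUnit (constantCoeff (v i))) :
    MvPowerSeries σ R ≃ₐ[R] MvPowerSeries σ R :=
  AlgEquiv.ofBijective _ (bijective_diag hv)

theorem diagEquiv_X {v : σ → MvPowerSeries σ R} (hv : ∀ i, IsUnit (constantCoeff (v i))) (i : σ) :
    diagEquiv hv (X i) = X i * v i :=
  substAlgHom_X (hasSubst_diag v) i

theorem diagEquiv_C {v : σ → MvPowerSeries σ R} (hv : ∀ i, IsUnit (constantCoeff (v i))) (r : R) :
    diagEquiv hv (C r) = C r := by
  simpa [MvPowerSeries.algebraMap_apply] using (diagEquiv hv).commutes r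

/-- `Z ↦ Z + g` for `g` free of `Z` -/
noncomputable def shear (z : σ) (g : MvPowerSeries σ R) : σ → MvPowerSeries σ R :=
  fun i => if i = z then X i + g else X i

theorem hasSubst_shear (z : σ) {g : MvPowerSeries σ R} (hg : constantCoeff g = 0) :
    HasSubst (shear z g) :=
  hasSubst_of_constantCoeff_zero fun i => by simp only [shear]; split <;> simp [hg]

/-- a shear is an automorphism -/
noncomputable def shearEquiv (z : σ) {g : MvPowerSeries σ R} (hg : constantCoeff g = 0)
    (hfix : subst (shear z g) g = g) (hfix' : subst (shear z (-g)) g = g) :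
    MvPowerSeries σ R ≃ₐ[R] MvPowerSeries σ R :=
  have hg' : constantCoeff (-g) = 0 := by simp [hg]
  AlgEquiv.ofAlgHom (substAlgHom (hasSubst_shear z hg)) (substAlgHom (hasSubst_shear z hg'))
    (by
      ext1 f
      simp only [AlgHom.comp_apply, AlgHom.id_apply, coe_substAlgHom]
      rw [subst_comp_subst_apply (hasSubst_shear z hg') (hasSubst_shear z hg)]
      have : (fun s => subst (shear z g) (shear z (-g) s)) = (X : σ → MvPowerSeries σ R) := by
        funext s
        rw [← coe_substAlgHom (hasSubst_shear z hg)]
        simp only [shear]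
        split
        · next h =>
          subst h
          rw [map_add, map_neg, substAlgHom_X, coe_substAlgHom, hfix, shear, if_pos rfl]
          ring
        · next h => rw [substAlgHom_X, shear, if_neg h]
      rw [this, subst_self]; rfl)
    (by
      ext1 f
      simp only [AlgHom.comp_apply, AlgHom.id_apply, coe_substAlgHom]
      rw [subst_comp_subst_apply (hasSubst_shear z hg) (hasSubst_shear z hg')]
      have : (fun s => subst (shear z (-g)) (shear z g s)) = (X : σ → MvPowerSeries σ R) := by
        funext s
        rw [← coe_substAlgHom (hasSubst_shear z hg')]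
        simp only [shear]
        split
        · next h =>
          subst h
          rw [map_add, substAlgHom_X, coe_substAlgHom, hfix', shear, if_pos rfl]
          ring
        · next h => rw [substAlgHom_X, shear, if_neg h]
      rw [this, subst_self]; rfl)

theorem shearEquiv_X (z : σ) {g : MvPowerSeries σ R} (hg : constantCoeff g = 0)
    (hfix : subst (shear z g) g = g) (hfix' : subst (shear z (-g)) g = g) (i : σ) :
    shearEquiv z hg hfix hfix' (X i) = if i = z then X i + g else X i :=
  substAlgHom_X (hasSubst_shear z hg) i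

theorem shearEquiv_C (z : σ) {g : MvPowerSeries σ R} (hg : constantCoeff g = 0)
    (hfix : subst (shear z g) g = g) (hfix' : subst (shear z (-g)) g = g) (r : R) :
    shearEquiv z hg hfix hfix' (C r) = C r := by
  simpa [MvPowerSeries.algebraMap_apply] using (shearEquiv z hg hfix hfix').commutes r

/-- cube roots of series with constant term `1`, in characteristic two -/
theorem exists_cube_root {τ : Type v} [CharP R 2] {u : MvPowerSeries τ R} (hu : constantCoeff u = 1) :
    ∃ V : MvPowerSeries τ R, constantCoeff V = 1 ∧ V ^ 3 = u := by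
  set P : PowerSeries R := (1 + PowerSeries.X) ^ 3 - 1 with hP
  have hP0 : P.constantCoeff = 0 := by simp [hP]
  have hP1 : PowerSeries.coeff 1 P = 1 := by
    have e : P = PowerSeries.X * (3 + 3 * PowerSeries.X + PowerSeries.X ^ 2) := by rw [hP]; ring
    rw [e, PowerSeries.coeff_succ_X_mul, PowerSeries.coeff_zero_eq_constantCoeff_apply]
    simp only [map_add, map_mul, map_pow, PowerSeries.constantCoeff_X, mul_zero, add_zero, map_ofNat,
      zero_pow two_ne_zero]
    rw [show (3 : R) = 2 + 1 by norm_num, CharTwo.two_eq_zero, zero_add]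
  letI : Invertible (PowerSeries.coeff 1 P) := invertibleOne.copy _ hP1
  have hu0 : (u - 1).constantCoeff = 0 := by simp [hu]
  have hs : PowerSeries.HasSubst (u - 1) := PowerSeries.HasSubst.of_constantCoeff_zero hu0
  have hQs : PowerSeries.HasSubst P.substInv :=
    PowerSeries.HasSubst.of_constantCoeff_zero' (PowerSeries.constantCoeff_substInv P)
  refine ⟨1 + PowerSeries.subst (u - 1) P.substInv, ?_, ?_⟩
  · rw [map_add, map_one, PowerSeries.constantCoeff_subst_eq_zero hu0 _ (PowerSeries.constantCoeff_substInv P),
      add_zero]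
  · have h : (1 + P.substInv) ^ 3 = 1 + PowerSeries.X := by
      have := PowerSeries.subst_substInv_right P hP0
      obtain ⟨Q, hQ⟩ : ∃ Q, Q = P.substInv := ⟨_, rfl⟩
      rw [← hQ] at hQs this ⊢
      rw [hP, PowerSeries.subst_sub hQs, PowerSeries.subst_pow hQs, PowerSeries.subst_add hQs,
        PowerSeries.subst_X hQs, ← PowerSeries.coe_substAlgHom hQs, map_one] at this
      linear_combination this
    have := congrArg (PowerSeries.substAlgHom (R := R) hs) h
    rw [map_pow, map_add, map_add, map_one, PowerSeries.substAlgHom_X] at this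
    rw [← PowerSeries.coe_substAlgHom hs, this]
    ring

end Groth.Agent.KumFamH
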