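import Mathlib.Algebra.MvPolynomial.Expand
import Mathlib.Algebra.CharP.Two
import Mathlib.Algebra.CharP.Algebra
import Mathlib.Algebra.MvPolynomial.Division
import Mathlib.RingTheory.Ideal.Maps
import Mathlib.Algebra.MvPolynomial.Derivation
import Mathlib.RingTheory.Adjoin.Basic
import Mathlib.Tactic.Ring
import Mathlib.Tactic.LinearCombination

/-!
Parity decomposition of polynomials in two variables, and its consequences in characteristic two.
-/

universe u

open MvPolynomial

namespace Groth.Agent.KumFamH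

variable {R : Type u} [CommRing R]

local notation "E2" => expand (σ := Fin 2) (R := R) 2

theorem coeff_odd_mul {m n : ℕ} (hm : Odd m) (hn : Odd n) (A : MvPolynomial (Fin 2) R) (i j i' j' : ℕ)
    (hi : i' ≤ 1) (hj : j' ≤ 1) (d : Fin 2 →₀ ℕ) :
    coeff (2 • d + Finsupp.single 0 (i * m) + Finsupp.single 1 (j * n))
        (E2 A * (X 0 ^ (i' * m) * X 1 ^ (j' * n)))
      = if (i % 2 = i' ∧ j % 2 = j' ∧ i = i' ∧ j = j') then coeff d A else
        coeff (2 • d + Finsupp.single 0 (i * m) + Finsupp.single 1 (j * n))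
          (E2 A * (X 0 ^ (i' * m) * X 1 ^ (j' * n))) := by
  split
  · next h =>
    obtain ⟨-, -, rfl, rfl⟩ := h
    rw [X_pow_eq_monomial, X_pow_eq_monomial, monomial_mul, one_mul, add_assoc, coeff_mul_monomial,
      mul_one, coeff_expand_smul _ two_ne_zero]
  · rfl

theorem coeff_other {m n : ℕ} (hm : Odd m) (hn : Odd n) (A : MvPolynomial (Fin 2) R) {i j i' j' : ℕ}
    (hi : i ≤ 1) (hj : j ≤ 1) (hi' : i' ≤ 1) (hj' : j' ≤ 1) (h : i ≠ i' ∨ j ≠ j') (d : Fin 2 →₀ ℕ) :
    coeff (2 • d + Finsupp.single 0 (i * m) + Finsupp.single 1 (j * n))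
        (E2 A * (X 0 ^ (i' * m) * X 1 ^ (j' * n))) = 0 := by
  classical
  rw [X_pow_eq_monomial, X_pow_eq_monomial, monomial_mul, one_mul, coeff_mul_monomial']
  split
  · next hle =>
    obtain ⟨a, ha⟩ := hm
    obtain ⟨b, hb⟩ := hn
    rw [mul_one]
    have h0 := hle 0
    have h1 := hle 1
    simp [Finsupp.single_apply] at h0 h1
    rcases h with h | h
    · apply coeff_expand_of_not_dvd (i := 0)
      simp [Finsupp.single_apply]
      rcases (show i = 0 ∨ i = 1 by omega) with rfl | rfl <;> rcases (show i' = 0 ∨ i' = 1 by omega) with rfl | rfl <;>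
        omega
    · apply coeff_expand_of_not_dvd (i := 1)
      simp [Finsupp.single_apply]
      rcases (show j = 0 ∨ j = 1 by omega) with rfl | rfl <;> rcases (show j' = 0 ∨ j' = 1 by omega) with rfl | rfl <;>
        omega
  · rfl

theorem decomp_unique {m n : ℕ} (hm : Odd m) (hn : Odd n) {A B C' D : MvPolynomial (Fin 2) R}
    (h : E2 A + E2 B * X 0 ^ m + E2 C' * X 1 ^ n + E2 D * (X 0 ^ m * X 1 ^ n) = 0) :
    A = 0 ∧ B = 0 ∧ C' = 0 ∧ D = 0 := by
  have h' : E2 A * (X 0 ^ (0 * m) * X 1 ^ (0 * n)) + E2 B * (X 0 ^ (1 * m) * X 1 ^ (0 * n))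
      + E2 C' * (X 0 ^ (0 * m) * X 1 ^ (1 * n)) + E2 D * (X 0 ^ (1 * m) * X 1 ^ (1 * n)) = 0 := by
    simpa using h
  refine ⟨?_, ?_, ?_, ?_⟩ <;> ext d <;> rw [coeff_zero]
  · have := congrArg (coeff (2 • d + Finsupp.single 0 (0 * m) + Finsupp.single 1 (0 * n))) h'
    simp only [coeff_add, coeff_zero] at this
    rw [coeff_other hm hn B (i := 0) (j := 0) (by omega) (by omega) (by omega) (by omega) (by omega) d,
      coeff_other hm hn C' (i := 0) (j := 0) (by omega) (by omega) (by omega) (by omega) (by omega) d,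
      coeff_other hm hn D (i := 0) (j := 0) (by omega) (by omega) (by omega) (by omega) (by omega) d,
      coeff_odd_mul hm hn A 0 0 0 0 (by omega) (by omega) d, if_pos (by omega)] at this
    simpa using this
  · have := congrArg (coeff (2 • d + Finsupp.single 0 (1 * m) + Finsupp.single 1 (0 * n))) h'
    simp only [coeff_add, coeff_zero] at this
    rw [coeff_other hm hn A (i := 1) (j := 0) (by omega) (by omega) (by omega) (by omega) (by omega) d,
      coeff_other hm hn C' (i := 1) (j := 0) (by omega) (by omega) (by omega) (by omega) (by omega) d,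
      coeff_other hm hn D (i := 1) (j := 0) (by omega) (by omega) (by omega) (by omega) (by omega) d,
      coeff_odd_mul hm hn B 1 0 1 0 (by omega) (by omega) d, if_pos (by omega)] at this
    simpa using this
  · have := congrArg (coeff (2 • d + Finsupp.single 0 (0 * m) + Finsupp.single 1 (1 * n))) h'
    simp only [coeff_add, coeff_zero] at this
    rw [coeff_other hm hn A (i := 0) (j := 1) (by omega) (by omega) (by omega) (by omega) (by omega) d,
      coeff_other hm hn B (i := 0) (j := 1) (by omega) (by omega) (by omega) (by omega) (by omega) d,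
      coeff_other hm hn D (i := 0) (j := 1) (by omega) (by omega) (by omega) (by omega) (by omega) d,
      coeff_odd_mul hm hn C' 0 1 0 1 (by omega) (by omega) d, if_pos (by omega)] at this
    simpa using this
  · have := congrArg (coeff (2 • d + Finsupp.single 0 (1 * m) + Finsupp.single 1 (1 * n))) h'
    simp only [coeff_add, coeff_zero] at this
    rw [coeff_other hm hn A (i := 1) (j := 1) (by omega) (by omega) (by omega) (by omega) (by omega) d,
      coeff_other hm hn B (i := 1) (j := 1) (by omega) (by omega) (by omega) (by omega) (by omega) d,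
      coeff_other hm hn C' (i := 1) (j := 1) (by omega) (by omega) (by omega) (by omega) (by omega) d,
      coeff_odd_mul hm hn D 1 1 1 1 (by omega) (by omega) d, if_pos (by omega)] at this
    simpa using this

/-- the elements which decompose along the odd monomials -/
def Dec (m n : ℕ) (p : MvPolynomial (Fin 2) R) : Prop :=
  ∃ A B C' D, p = E2 A + E2 B * X 0 ^ m + E2 C' * X 1 ^ n + E2 D * (X 0 ^ m * X 1 ^ n)

theorem Dec.mul {m n : ℕ} {p q : MvPolynomial (Fin 2) R} (hp : Dec m n p) (hq : Dec m n q) :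
    Dec m n (p * q) := by
  obtain ⟨A, B, C', D, rfl⟩ := hp
  obtain ⟨A', B', C'', D', rfl⟩ := hq
  refine ⟨A * A' + B * B' * X 0 ^ m + C' * C'' * X 1 ^ n + D * D' * (X 0 ^ m * X 1 ^ n),
    A * B' + B * A' + (C' * D' + D * C'') * X 1 ^ n,
    A * C'' + C' * A' + (B * D' + D * B') * X 0 ^ m,
    A * D' + D * A' + B * C'' + C' * B', ?_⟩
  simp only [map_add, map_mul, map_pow, expand_X, ← pow_mul]
  ring

theorem Dec.add {m n : ℕ} {p q : MvPolynomial (Fin 2) R} (hp : Dec m n p) (hq : Dec m n q) :
    Dec m n (p + q) := by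
  obtain ⟨A, B, C', D, rfl⟩ := hp
  obtain ⟨A', B', C'', D', rfl⟩ := hq
  exact ⟨A + A', B + B', C' + C'', D + D', by simp only [map_add]; ring⟩

theorem Dec.const (m n : ℕ) (r : R) : Dec m n (C r : MvPolynomial (Fin 2) R) :=
  ⟨C r, 0, 0, 0, by simp⟩

theorem dec_one_one (p : MvPolynomial (Fin 2) R) : Dec 1 1 p := by
  induction p using MvPolynomial.induction_on with
  | C r => exact Dec.const 1 1 r
  | add p q hp hq => exact hp.add hq
  | mul_X p i hp =>
    refine hp.mul ?_
    fin_cases i
    · exact ⟨0, 1, 0, 0, by simp⟩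
    · exact ⟨0, 0, 1, 0, by simp⟩

theorem dec_of_mem_adjoin {a : MvPolynomial (Fin 2) R}
    (ha : a ∈ Algebra.adjoin R ({X 0 ^ 2, X 0 ^ 3, X 1 ^ 2, X 1 ^ 3} : Set (MvPolynomial (Fin 2) R))) :
    Dec 3 3 a := by
  induction ha using Algebra.adjoin_induction with
  | mem x hx =>
    simp only [Set.mem_insert_iff, Set.mem_singleton_iff] at hx
    rcases hx with rfl | rfl | rfl | rfl
    · exact ⟨X 0, 0, 0, 0, by simp⟩
    · exact ⟨0, 1, 0, 0, by simp⟩
    · exact ⟨X 1, 0, 0, 0, by simp⟩
    · exact ⟨0, 0, 1, 0, by simp⟩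
  | algebraMap r => exact Dec.const 3 3 r
  | add x y _ _ hx hy => exact hx.add hy
  | mul x y _ _ hx hy => exact hx.mul hy

theorem expand_eq_aeval (A : MvPolynomial (Fin 2) R) :
    E2 A = aeval (R := R) (![X 0 ^ 2, X 1 ^ 2] : Fin 2 → MvPolynomial (Fin 2) R) A := by
  change aeval _ A = _
  congr 2
  funext i
  fin_cases i <;> simp

theorem derivation_expand [CharP R 2] (D : Derivation R (MvPolynomial (Fin 2) R) (MvPolynomial (Fin 2) R))
    (A : MvPolynomial (Fin 2) R) : D (E2 A) = 0 := by
  have h2 : (2 : MvPolynomial (Fin 2) R) = 0 := CharTwo.two_eq_zero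
  induction A using MvPolynomial.induction_on with
  | C r => simp [Derivation.map_algebraMap]
  | add p q hp hq => simp [hp, hq]
  | mul_X p i hp =>
    rw [map_mul, expand_X, D.leibniz, hp, pow_two, D.leibniz]
    simp only [smul_eq_mul, mul_zero, add_zero]
    linear_combination (E2 p * X i * D (X i)) * h2

/-- kernel of `X, Y, Z ↦ X², Y², f` -/
theorem ker_aeval_eq_span {f : MvPolynomial (Fin 2) R} {q : MvPolynomial (Fin 2) R}
    (F : MvPolynomial (Fin 3) R) (hF : F = X 2 ^ 2 + rename (Fin.castSucc : Fin 2 → Fin 3) q)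
    (hf : f ^ 2 + E2 q = 0)
    (hfree : ∀ A B : MvPolynomial (Fin 2) R, E2 A + E2 B * f = 0 → A = 0 ∧ B = 0) :
    RingHom.ker (aeval (R := R) (![X 0 ^ 2, X 1 ^ 2, f] : Fin 3 → MvPolynomial (Fin 2) R)) = Ideal.span {F} := by
  set φ := aeval (R := R) (![X 0 ^ 2, X 1 ^ 2, f] : Fin 3 → MvPolynomial (Fin 2) R) with hφ
  set ι := rename (R := R) (Fin.castSucc : Fin 2 → Fin 3) with hι
  have hφι : ∀ A, φ (ι A) = E2 A := fun A => by
    rw [hφ, hι, aeval_rename, expand_eq_aeval]
    congr 2
    funext i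
    fin_cases i <;> simp
  have hFker : φ F = 0 := by
    rw [hF, map_add, hφι, map_pow, hφ, aeval_X]
    simpa using hf
  refine le_antisymm (fun p hp => ?_) ((Ideal.span_singleton_le_iff_mem _).mpr hFker)
  have hdiv : ∀ p, ∃ A B, p - (ι A + ι B * X 2) ∈ Ideal.span {F} := by
    intro p
    induction p using MvPolynomial.induction_on with
    | C r => exact ⟨C r, 0, by simp [hι]⟩
    | add p q hp hq =>
      obtain ⟨A, B, h1⟩ := hp
      obtain ⟨A', B', h2⟩ := hq
      refine ⟨A + A', B + B', ?_⟩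
      have := add_mem h1 h2
      convert this using 1
      simp only [map_add]; ring
    | mul_X p i hp =>
      obtain ⟨A, B, h1⟩ := hp
      induction i using Fin.lastCases with
      | last =>
        refine ⟨-(B * q), A, ?_⟩
        have := add_mem (Ideal.mul_mem_right (X (Fin.last 2)) _ h1)
          (Ideal.mul_mem_left _ (ι B) (Ideal.mem_span_singleton_self F))
        convert this using 1
        rw [hF, show (Fin.last 2 : Fin 3) = 2 from rfl, map_neg, map_mul]
        ring
      | cast i =>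
        refine ⟨A * X i, B * X i, ?_⟩
        have := Ideal.mul_mem_right (X (Fin.castSucc i)) _ h1
        convert this using 1
        simp only [map_mul, hι, rename_X]; ring
  obtain ⟨A, B, h⟩ := hdiv p
  have h0 := ((Ideal.span_singleton_le_iff_mem (RingHom.ker φ)).mpr hFker) h
  rw [RingHom.mem_ker] at hp h0
  rw [map_sub, hp, map_add, map_mul, hφι, hφι, zero_sub, neg_eq_zero, hφ, aeval_X] at h0
  obtain ⟨rfl, rfl⟩ := hfree A B (by simpa using h0)
  simpa using h

theorem free_of_odd {m n : ℕ} (hm : Odd m) (hn : Odd n) {a b : MvPolynomial (Fin 2) R} {t : R}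
    (ht : IsUnit t) (A B : MvPolynomial (Fin 2) R)
    (h : E2 A + E2 B * (E2 a * X 0 ^ m + E2 b * X 1 ^ n + E2 (C t) * (X 0 ^ m * X 1 ^ n)) = 0) :
    A = 0 ∧ B = 0 := by
  have h' : E2 A + E2 (B * a) * X 0 ^ m + E2 (B * b) * X 1 ^ n + E2 (B * C t) * (X 0 ^ m * X 1 ^ n) = 0 := by
    simp only [map_mul]; linear_combination h
  obtain ⟨hA, -, -, hB⟩ := decomp_unique hm hn h'
  refine ⟨hA, ?_⟩
  have : IsUnit (C t : MvPolynomial (Fin 2) R) := ht.map _
  exact this.mul_left_eq_zero.mp hB

end Groth.Agent.KumFamH
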