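import Mathlib.AlgebraicGeometry.Limits
import Mathlib.AlgebraicGeometry.Gluing
import Mathlib.Topology.LocallyConstant.Basic

universe u
open CategoryTheory CategoryTheory.Limits AlgebraicGeometry

namespace KumFamH

variable {M : Type u} {g : M → Scheme.{u}}

noncomputable def sigmaIdx (x : ↑(∐ g : Scheme.{u})) : M := ((sigmaMk g).symm x).1

lemma sigmaIdx_ι (m : M) (s : g m) : sigmaIdx ((Sigma.ι g m).base s) = m := by
  show ((sigmaMk g).symm ((Sigma.ι g m).base s)).1 = m
  rw [← sigmaMk_mk g m s, Homeomorph.symm_apply_apply]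

lemma range_ι_eq (m : M) : Set.range (Sigma.ι g m).base = sigmaIdx ⁻¹' {m} := by
  ext x
  constructor
  · rintro ⟨s, rfl⟩; exact sigmaIdx_ι m s
  · intro hx
    obtain ⟨⟨m', s⟩, rfl⟩ := (sigmaMk g).surjective x
    have hm : m' = m := by
      have h := sigmaIdx_ι m' s
      rw [← sigmaMk_mk g m' s] at h
      exact h.symm.trans hx
    subst hm
    exact ⟨s, (sigmaMk_mk g m' s).symm⟩

lemma sigmaIdx_isLocallyConstant : IsLocallyConstant (sigmaIdx (g := g)) :=
  IsLocallyConstant.iff_isOpen_fiber.mpr fun m => by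
    rw [← range_ι_eq]; exact (Sigma.ι g m).isOpenEmbedding.isOpen_range

/-- a morphism landing in the m-th summand factors through it, via its composite with the codiagonal -/
lemma comp_eq_of_idx {S T : Scheme.{u}} (f : T ⟶ ∐ (fun _ : M => S)) (m : M)
    (h : ∀ t, sigmaIdx (f.base t) = m) :
    f = (f ≫ Sigma.desc (fun _ : M => 𝟙 S)) ≫ Sigma.ι (fun _ : M => S) m := by
  have hr : Set.range f.base ⊆ Set.range (Sigma.ι (fun _ : M => S) m).base := by
    rw [range_ι_eq]; rintro _ ⟨t, rfl⟩; exact h t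
  have e1 := IsOpenImmersion.lift_fac (Sigma.ι (fun _ : M => S) m) f hr
  conv_rhs => rw [← e1]
  rw [Category.assoc _ _ (Sigma.desc _), Sigma.ι_desc, Category.comp_id, e1]

end KumFamH
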